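/-
The numbers `q ^ j - (-1) ^ j` and the bounds on `(q ^ (d - e) - (-1) ^ (d - e)) * p ^ clog p e`.
Main results (namespace `Cfsg.Agent.PGUOrder`): `succ_dvd_tor`, `tor_mono`, `tor_mul_le`, `bound_of_le`.
-/
import Cfsg.Agent.EqLemmas

set_option autoImplicit false

namespace Cfsg.Agent.PGUOrder

/-- The order of the largest cyclic torus of the unitary group of degree `j`. -/
def tor (q j : ℕ) : ℕ := if Even j then q ^ j - 1 else q ^ j + 1

theorem tor_even {q j : ℕ} (h : Even j) : tor q j = q ^ j - 1 := if_pos h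

theorem tor_odd {q j : ℕ} (h : Odd j) : tor q j = q ^ j + 1 := if_neg (Nat.not_even_iff_odd.2 h)

theorem tor_le (q j : ℕ) : tor q j ≤ q ^ j + 1 := by
  unfold tor; split_ifs <;> omega

theorem tor_pos {q j : ℕ} (hq : 2 ≤ q) (hj : 1 ≤ j) : 0 < tor q j := by
  have : 2 ≤ q ^ j := hq.trans (Nat.le_self_pow (by omega) q)
  unfold tor; split_ifs <;> omega

theorem succ_dvd_tor (q j : ℕ) : q + 1 ∣ tor q j := by
  rcases Nat.even_or_odd j with h | h
  · rw [tor_even h]
    obtain ⟨i, rfl⟩ := even_iff_two_dvd.1 h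
    rw [pow_mul]
    exact dvd_trans (Dvd.intro _ (by simpa using (Nat.sq_sub_sq q 1).symm)) (Nat.sub_one_dvd_pow_sub_one _ i)
  · rw [tor_odd h]
    simpa using h.nat_add_dvd_pow_add_pow q 1

theorem tor_mono {q : ℕ} (hq : 2 ≤ q) {a b : ℕ} (h : a ≤ b) : tor q a ≤ tor q b := by
  induction b, h using Nat.le_induction with
  | base => exact le_rfl
  | succ b _ ih =>
    refine ih.trans ?_
    rcases Nat.eq_zero_or_pos b with rfl | hb
    · simp [tor]
    have h1 : 2 ≤ q ^ b := hq.trans (Nat.le_self_pow (by omega) q)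
    have h2 : 2 * q ^ b ≤ q ^ (b + 1) := by rw [pow_succ, mul_comm]; exact Nat.mul_le_mul_left _ hq
    have := tor_le q b
    have h3 : q ^ (b + 1) - 1 ≤ tor q (b + 1) := by unfold tor; split_ifs <;> omega
    omega

/-- Two orbits can be merged. -/
theorem tor_mul_le {q a b : ℕ} (hq : 2 ≤ q) (ha : 1 ≤ a) (hb : 1 ≤ b) :
    tor q a * tor q b ≤ (q + 1) * tor q (a + b - 1) := by
  obtain ⟨a', rfl⟩ : ∃ a', a = a' + 1 := ⟨a - 1, by omega⟩
  obtain ⟨b', rfl⟩ : ∃ b', b = b' + 1 := ⟨b - 1, by omega⟩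
  rw [show a' + 1 + (b' + 1) - 1 = a' + b' + 1 by omega]
  have hA : 1 ≤ q ^ a' := Nat.one_le_pow _ _ (by omega)
  have hB : 1 ≤ q ^ b' := Nat.one_le_pow _ _ (by omega)
  have hAq : 1 ≤ q ^ (a' + 1) := Nat.one_le_pow _ _ (by omega)
  have hBq : 1 ≤ q ^ (b' + 1) := Nat.one_le_pow _ _ (by omega)
  have hABq : 1 ≤ q ^ (a' + b' + 1) := Nat.one_le_pow _ _ (by omega)
  rcases Nat.even_or_odd (a' + 1) with he | ho <;> rcases Nat.even_or_odd (b' + 1) with he' | ho'
  · rw [tor_even he, tor_even he', tor_odd (by grind : Odd (a' + b' + 1))]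
    calc (q ^ (a' + 1) - 1) * (q ^ (b' + 1) - 1) ≤ q ^ (a' + 1) * q ^ (b' + 1) :=
          Nat.mul_le_mul (Nat.sub_le _ _) (Nat.sub_le _ _)
      _ = q * q ^ (a' + b' + 1) := by ring
      _ ≤ _ := Nat.mul_le_mul (by omega) (by omega)
  · rw [tor_even he, tor_odd ho', tor_even (by grind : Even (a' + b' + 1))]
    zify [hAq, hABq] at *
    simp only [pow_succ, pow_add] at *
    set x : ℤ := (q : ℤ) ^ a'
    set y : ℤ := (q : ℤ) ^ b'
    have hq' : (2 : ℤ) ≤ q := by exact_mod_cast hq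
    nlinarith [mul_nonneg (mul_nonneg (sub_nonneg.2 hA) (sub_nonneg.2 hB)) (show (0:ℤ) ≤ q by omega),
      mul_nonneg (sub_nonneg.2 hB) (show (0:ℤ) ≤ q by omega)]
  · rw [tor_odd ho, tor_even he', tor_even (by grind : Even (a' + b' + 1))]
    zify [hBq, hABq] at *
    simp only [pow_succ, pow_add] at *
    set x : ℤ := (q : ℤ) ^ a'
    set y : ℤ := (q : ℤ) ^ b'
    have hq' : (2 : ℤ) ≤ q := by exact_mod_cast hq
    nlinarith [mul_nonneg (mul_nonneg (sub_nonneg.2 hA) (sub_nonneg.2 hB)) (show (0:ℤ) ≤ q by omega),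
      mul_nonneg (sub_nonneg.2 hA) (show (0:ℤ) ≤ q by omega)]
  · rw [tor_odd ho, tor_odd ho', tor_odd (by grind : Odd (a' + b' + 1))]
    zify at *
    simp only [pow_succ, pow_add] at *
    set x : ℤ := (q : ℤ) ^ a'
    set y : ℤ := (q : ℤ) ^ b'
    nlinarith [mul_nonneg (mul_nonneg (sub_nonneg.2 hA) (sub_nonneg.2 hB)) (show (0:ℤ) ≤ q by omega)]

theorem tor_le_succ_mul {q J : ℕ} (hq : 2 ≤ q) (hJ : 2 ≤ J) : tor q J ≤ (q + 1) * tor q (J - 1) := by
  obtain ⟨a, rfl⟩ : ∃ a, J = a + 2 := ⟨J - 2, by omega⟩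
  have h1 : 1 ≤ q ^ (a + 1) := Nat.one_le_pow _ _ (by omega)
  rw [show a + 2 - 1 = a + 1 by omega]
  rcases Nat.even_or_odd (a + 2) with he | ho
  · rw [tor_even he, tor_odd (by grind : Odd (a + 1))]
    have : q ^ (a + 2) = q * q ^ (a + 1) := by ring
    nlinarith [Nat.sub_le (q ^ (a + 2)) 1]
  · rw [tor_odd ho, tor_even (by grind : Even (a + 1))]
    obtain ⟨i, rfl⟩ : ∃ i, a = i + 1 := ⟨a - 1, by grind⟩
    have h2 : q ^ 2 ≤ q ^ (i + 1 + 1) := Nat.pow_le_pow_right (by omega) (by omega)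
    zify [h1]
    have h3 : (q : ℤ) ^ (i + 1 + 2) = q * q ^ (i + 1 + 1) := by ring
    zify at h2
    have : (2 : ℤ) ≤ q := by exact_mod_cast hq
    nlinarith

theorem le_three_pow {e : ℕ} (he : 3 ≤ e) : e ≤ 3 ^ (e - 2) := by
  induction e, he using Nat.le_induction with
  | base => norm_num
  | succ n hn ih => rw [show n + 1 - 2 = (n - 2) + 1 by omega, pow_succ]; omega

theorem le_two_pow {e : ℕ} (he : 4 ≤ e) : e ≤ 2 ^ (e - 2) := by
  induction e, he using Nat.le_induction with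
  | base => norm_num
  | succ n hn ih => rw [show n + 1 - 2 = (n - 2) + 1 by omega, pow_succ]; omega

theorem clog_le_pred {p e : ℕ} (hp : 2 ≤ p) : Nat.clog p e ≤ e - 1 := by
  rw [Nat.clog_le_iff_le_pow (by omega)]
  rcases Nat.eq_zero_or_pos e with rfl | he
  · simp
  · have := Nat.lt_pow_self (n := e - 1) (show 1 < p by omega)
    omega

theorem clog_le_sub_two {p e : ℕ} (hp : 2 ≤ p) (he : 3 ≤ e) (h : ¬ (p = 2 ∧ e = 3)) :
    Nat.clog p e ≤ e - 2 := by
  rw [Nat.clog_le_iff_le_pow (by omega)]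
  rcases Nat.lt_or_ge p 3 with hp3 | hp3
  · obtain rfl : p = 2 := by omega
    exact le_two_pow (by omega)
  · exact (le_three_pow he).trans (Nat.pow_le_pow_left hp3 _)

theorem clog_two {p : ℕ} (hp : 2 ≤ p) : Nat.clog p 2 = 1 := by
  have h1 : Nat.clog p 2 ≤ 1 := by
    rw [Nat.clog_le_iff_le_pow (by omega), pow_one]; exact hp
  have h2 : 0 < Nat.clog p 2 := Nat.clog_pos (by omega) one_lt_two
  omega

/-- The four bounds. -/
theorem bound_of_le {p f d q T : ℕ} (hp : 2 ≤ p) (hf : 1 ≤ f) (hq : q = p ^ f) (hd : 3 ≤ d)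
    (h32 : ¬ (d = 3 ∧ q = 2))
    (hT : (Odd d ∧ 2 ≤ f ∧ T = q ^ (d - 1) - 1) ∨ (Odd d ∧ f = 1 ∧ T = (p ^ (d - 2) + 1) * p) ∨
      (Even d ∧ 2 < q ∧ T = q ^ (d - 1) + 1) ∨ (Even d ∧ q = 2 ∧ T = 4 * (2 ^ (d - 3) + 1)))
    {e : ℕ} (he : 1 ≤ e) :
    (e < d → tor q (d - e) * p ^ Nat.clog p e ≤ T) ∧ (e = d → p ^ Nat.clog p e ≤ T) := by
  have hq2 : 2 ≤ q := hq ▸ hp.trans (Nat.le_self_pow (by omega) p)
  have hqd : ∀ i, 1 ≤ q ^ i := fun i => Nat.one_le_pow _ _ (by omega)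
  have hT1 : q ^ (d - 1) - 1 ≤ T ∨ q ^ (d - 1) ≤ T := by
    rcases hT with ⟨-, -, rfl⟩ | ⟨-, hf1, rfl⟩ | ⟨-, -, rfl⟩ | ⟨-, hq', rfl⟩
    · exact Or.inl le_rfl
    · right
      subst hf1
      rw [hq, pow_one, show d - 1 = (d - 2) + 1 by omega, pow_succ]
      exact Nat.mul_le_mul_right _ (Nat.le_succ _)
    · right; omega
    · right
      rw [hq', show d - 1 = (d - 3) + 2 by omega, pow_succ, pow_succ]
      omega
  constructor
  · intro hed
    obtain ⟨D, rfl⟩ : ∃ D, d = e + D + 1 := ⟨d - e - 1, by omega⟩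
    rw [show e + D + 1 - e = D + 1 by omega]
    set c := Nat.clog p e with hc
    rcases Nat.lt_or_ge e 2 with he1 | he2
    · -- e = 1
      obtain rfl : e = 1 := by omega
      rw [hc, Nat.clog_one_right, pow_zero, mul_one]
      rcases hT with ⟨ho, -, rfl⟩ | ⟨ho, hf1, rfl⟩ | ⟨he', -, rfl⟩ | ⟨he', hq', rfl⟩
      · rw [tor_even (by grind)]; simp [Nat.add_sub_cancel, show 1 + D + 1 - 1 = D + 1 by omega]
      · subst hf1
        rw [pow_one] at hq
        subst hq
        rw [tor_even (by grind), show 1 + D + 1 - 2 = D by omega, pow_succ, add_mul]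
        omega
      · rw [tor_odd (by grind), show 1 + D + 1 - 1 = D + 1 by omega]
      · subst hq'
        rw [tor_odd (by grind), show 1 + D + 1 - 3 = D - 1 by omega]
        obtain ⟨D', rfl⟩ : ∃ D', D = D' + 1 := ⟨D - 1, by omega⟩
        rw [Nat.add_sub_cancel, pow_succ, pow_succ]
        omega
    have hX : 2 ≤ q ^ (D + 1) := hq2.trans (Nat.le_self_pow (by omega) q)
    have htor := tor_le q (D + 1)
    have hpow : q ^ (D + 1) * q ^ (e - 1) = q ^ (e + D + 1 - 1) := by rw [← pow_add]; congr 1; omega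
    rcases Nat.lt_or_ge f 2 with hf1 | hf2
    · obtain rfl : f = 1 := by omega
      rw [pow_one] at hq
      subst hq
      rcases Nat.eq_or_lt_of_le he2 with rfl | he3
      · -- e = 2
        rw [hc, clog_two hp, pow_one]
        rcases hT with ⟨-, hf2, -⟩ | ⟨ho, -, rfl⟩ | ⟨he', -, rfl⟩ | ⟨he', hq', rfl⟩
        · omega
        · rw [tor_odd (by grind), show 2 + D + 1 - 2 = D + 1 by omega]
        · rw [tor_even (by grind), show 2 + D + 1 - 1 = D + 2 by omega, Nat.sub_mul, pow_succ q (D + 1)]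
          omega
        · subst hq'
          rw [tor_even (by grind), show 2 + D + 1 - 3 = D by omega, pow_succ]
          omega
      by_cases h23 : q = 2 ∧ e = 3
      · obtain ⟨rfl, rfl⟩ := h23
        have hc2 : c = 2 := by
          rw [hc]
          refine le_antisymm ((Nat.clog_le_iff_le_pow (by norm_num)).2 (by norm_num)) ?_
          by_contra hcon
          have h1 : 3 ≤ 2 ^ 1 := (Nat.clog_le_iff_le_pow (b := 2) (x := 3) (y := 1) (by norm_num)).1 (by omega)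
          norm_num at h1
        rw [hc2]
        rcases hT with ⟨-, hf2, -⟩ | ⟨ho, -, rfl⟩ | ⟨he', hq', -⟩ | ⟨he', -, rfl⟩
        · omega
        · rw [tor_even (by grind), show 3 + D + 1 - 2 = D + 2 by omega,
            show 2 ^ (D + 2) = 2 ^ (D + 1) * 2 from pow_succ 2 (D + 1), show (2 : ℕ) ^ 2 = 4 from rfl]
          omega
        · omega
        · rw [tor_odd (by grind), show 3 + D + 1 - 3 = D + 1 by omega]
          omega
      have hce : c ≤ e - 2 := clog_le_sub_two hp he3 h23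
      have h1 : tor q (D + 1) * q ^ c ≤ (q ^ (D + 1) + 1) * q ^ (e - 2) :=
        Nat.mul_le_mul htor (Nat.pow_le_pow_right (by omega) hce)
      have h2 : (q ^ (D + 1) + 1) * q ^ (e - 2) ≤ q ^ (e + D + 1 - 1) - 1 := by
        rw [← hpow, show e - 1 = (e - 2) + 1 by omega, pow_succ q (e - 2)]
        set X := q ^ (D + 1)
        set Y := q ^ (e - 2) with hY
        have hY2 : 2 ≤ Y := hq2.trans (Nat.le_self_pow (by omega) q)
        have h3 : (X + 1) * Y + 1 ≤ X * (Y * q) := by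
          calc (X + 1) * Y + 1 ≤ X * Y * 2 := by nlinarith
            _ ≤ X * Y * q := Nat.mul_le_mul_left _ hq2
            _ = X * (Y * q) := by ring
        omega
      omega
    · -- f ≥ 2
      have hce : c ≤ e - 1 := clog_le_pred hp
      have hq4 : 2 * p ^ c ≤ q ^ (e - 1) := by
        rw [hq, ← pow_mul]
        calc 2 * p ^ c ≤ p * p ^ (e - 1) := Nat.mul_le_mul hp (Nat.pow_le_pow_right (by omega) hce)
          _ = p ^ (e - 1 + 1) := (pow_succ' p (e - 1)).symm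
          _ ≤ _ := Nat.pow_le_pow_right (by omega) (by nlinarith [show 1 ≤ e - 1 by omega])
      have h1 : tor q (D + 1) * p ^ c ≤ (q ^ (D + 1) + 1) * p ^ c := Nat.mul_le_mul_right _ htor
      have h2 : (q ^ (D + 1) + 1) * p ^ c + 1 ≤ q ^ (e + D + 1 - 1) := by
        rw [← hpow]
        set X := q ^ (D + 1)
        have hY : 1 ≤ p ^ c := Nat.one_le_pow _ _ (by omega)
        have hX4 : 3 ≤ X := by
          have h4 : 2 ^ 2 ≤ q := hq ▸ (Nat.pow_le_pow_left hp 2).trans (Nat.pow_le_pow_right (by omega) hf2)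
          have := h4.trans (Nat.le_self_pow (show D + 1 ≠ 0 by omega) q)
          omega
        calc (X + 1) * p ^ c + 1 ≤ X * (2 * p ^ c) := by nlinarith
          _ ≤ X * q ^ (e - 1) := Nat.mul_le_mul_left _ hq4
      omega
  · rintro rfl
    by_cases h23 : p = 2 ∧ e = 3
    · obtain ⟨rfl, rfl⟩ := h23
      have hc2 : Nat.clog 2 3 ≤ 2 := by
        rw [Nat.clog_le_iff_le_pow (by norm_num)]; norm_num
      have hf2 : 2 ≤ f := by
        by_contra hcon
        exact h32 ⟨rfl, by rw [hq, show f = 1 by omega, pow_one]⟩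
      have h4 : 4 ≤ q := hq ▸ (Nat.pow_le_pow_right (by norm_num) hf2 : (2:ℕ) ^ 2 ≤ 2 ^ f)
      have h16 : 4 * 4 ≤ q ^ (3 - 1) := by
        rw [show (3 : ℕ) - 1 = 2 from rfl, sq]; exact Nat.mul_le_mul h4 h4
      have := Nat.pow_le_pow_right (show 0 < 2 by norm_num) hc2
      omega
    · have hce := clog_le_sub_two hp hd h23
      have h1 : p ^ Nat.clog p e ≤ q ^ (e - 2) :=
        (Nat.pow_le_pow_right (by omega) hce).trans (Nat.pow_le_pow_left (hq ▸ Nat.le_self_pow (by omega) p) _)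
      have h2 : 2 * q ^ (e - 2) ≤ q ^ (e - 1) := by
        rw [show e - 1 = (e - 2) + 1 by omega, pow_succ, mul_comm]; exact Nat.mul_le_mul_left _ hq2
      have := hqd (e - 2)
      omega

end Cfsg.Agent.PGUOrder
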