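/-
A power of a unitary matrix with small exponent is scalar.
Main results (namespace `Cfsg.Agent.PGUOrder`): `exists_orbit_exponent`, `exists_scalar_power`.
-/
import Cfsg.Agent.Lib.PGUOrder.Arith
import Cfsg.Agent.Lib.LinSpec.Herm

set_option autoImplicit false
set_option linter.unusedSectionVars false
set_option linter.style.haveILetI false

namespace Cfsg.Agent.PGUOrder

open Polynomial Matrix

section Orbit

variable {K : Type*} [Field K] [DecidableEq K] {q : ℕ}

/-- The twisted Frobenius `x ↦ x⁻ᵠ`. -/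
def twist (q : ℕ) (x : K) : K := (x ^ q)⁻¹

theorem twist_iterate (q : ℕ) (x : K) (j : ℕ) :
    (twist q)^[j] x = if Even j then x ^ q ^ j else (x ^ q ^ j)⁻¹ := by
  induction j with
  | zero => simp
  | succ j ih =>
    rw [Function.iterate_succ', Function.comp_apply, ih]
    by_cases h : Even j
    · rw [if_pos h, if_neg (by grind), twist, ← pow_mul, ← pow_succ]
    · rw [if_neg h, if_pos (by grind), twist, inv_pow, inv_inv, ← pow_mul, ← pow_succ]

theorem pow_tor_eq_one (hq : 2 ≤ q) {x : K} (hx : x ≠ 0) {j : ℕ} (h : (twist q)^[j] x = x) : x ^ tor q j = 1 := by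
  rw [twist_iterate] at h
  by_cases he : Even j
  · rw [if_pos he] at h
    rw [tor_even he]
    apply mul_right_cancel₀ hx
    rw [← pow_succ, Nat.sub_add_cancel (Nat.one_le_pow _ _ (by omega)), one_mul, h]
  · rw [if_neg he] at h
    rw [tor_odd (Nat.not_even_iff_odd.1 he), pow_succ]
    nth_rewrite 2 [← h]
    exact mul_inv_cancel₀ (pow_ne_zero _ hx)

/-- An exponent for a set stable under the twist. -/
theorem exists_orbit_exponent (hq : 2 ≤ q) (hinj : Function.Injective (twist q : K → K)) :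
    ∀ (n : ℕ) (S : Finset K), S.card = n → S.Nonempty → (∀ x ∈ S, twist q x ∈ S) → (∀ x ∈ S, x ≠ 0) →
      ∃ L, 0 < L ∧ q + 1 ∣ L ∧ (∀ x ∈ S, x ^ L = 1) ∧
        ((L ≤ tor q n ∧ ∀ x ∈ S, ∀ y ∈ S, x ^ (L / (q + 1)) = y ^ (L / (q + 1))) ∨ (2 ≤ n ∧ L ≤ tor q (n - 1))) := by
  intro n
  induction n using Nat.strong_induction_on with
  | _ n ih =>
    intro S hn hne hst h0
    obtain ⟨α, hα⟩ := hne
    set f : K → K := twist q with hf
    have hmaps : ∀ i, f^[i] α ∈ S := by
      intro i
      induction i with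
      | zero => exact hα
      | succ i ih => rw [Function.iterate_succ', Function.comp_apply]; exact hst _ ih
    have hmem : α ∈ Function.periodicPts f := by
      obtain ⟨a, -, b, -, hab, heq⟩ := Finset.exists_ne_map_eq_of_card_lt_of_maps_to
        (s := Finset.range (S.card + 1)) (t := S) (by simp) (f := fun i => f^[i] α) (fun i _ => hmaps i)
      rcases Nat.lt_or_ge a b with h | h
      · refine Function.mk_mem_periodicPts (n := b - a) (by omega) ((hinj.iterate a) ?_)
        rw [← Function.iterate_add_apply, show a + (b - a) = b by omega]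
        exact heq.symm
      · refine Function.mk_mem_periodicPts (n := a - b) (by omega) ((hinj.iterate b) ?_)
        rw [← Function.iterate_add_apply, show b + (a - b) = a by omega]
        exact heq
    set J := Function.minimalPeriod f α with hJ
    have hJ0 : 0 < J := Function.minimalPeriod_pos_of_mem_periodicPts hmem
    set C := (Finset.range J).image fun i => f^[i] α with hC
    have hCS : C ⊆ S := fun x hx => by obtain ⟨i, -, rfl⟩ := Finset.mem_image.1 hx; exact hmaps i
    have hCcard : C.card = J := by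
      rw [hC, Finset.card_image_of_injOn, Finset.card_range]
      intro a ha b hb hab
      exact Function.iterate_injOn_Iio_minimalPeriod (f := f) (x := α) (by simpa using ha) (by simpa using hb) hab
    have hmemC : ∀ i, f^[i] α ∈ C := fun i => Finset.mem_image.2 ⟨i % J, Finset.mem_range.2 (Nat.mod_lt _ hJ0),
      Function.iterate_mod_minimalPeriod_eq⟩
    have hCst : ∀ x ∈ C, f x ∈ C := fun x hx => by
      obtain ⟨i, -, rfl⟩ := Finset.mem_image.1 hx
      rw [← Function.iterate_succ_apply' f]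
      exact hmemC _
    have hCpow : ∀ x ∈ C, x ^ tor q J = 1 := fun x hx => by
      refine pow_tor_eq_one hq (h0 x (hCS hx)) ?_
      obtain ⟨i, -, rfl⟩ := Finset.mem_image.1 hx
      show f^[J] (f^[i] α) = f^[i] α
      rw [← Function.iterate_add_apply, add_comm, Function.iterate_add_apply, Function.iterate_minimalPeriod]
    have hsub : (S \ C).card + C.card = S.card := Finset.card_sdiff_add_card_eq_card hCS
    rcases (S \ C).eq_empty_or_nonempty with he | hne'
    · have hSC : S = C := Finset.Subset.antisymm (Finset.sdiff_eq_empty_iff_subset.1 he) hCS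
      have hnJ : n = J := by rw [← hn, hSC, hCcard]
      refine ⟨tor q J, tor_pos hq hJ0, succ_dvd_tor q J, fun x hx => hCpow x (hSC ▸ hx),
        Or.inl ⟨by rw [hnJ], ?_⟩⟩
      set L := tor q J / (q + 1)
      have hL : L * (q + 1) = tor q J := Nat.div_mul_cancel (succ_dvd_tor q J)
      have hstep : ∀ x ∈ C, f x ^ L = x ^ L := fun x hx => by
        have h1 : (x ^ L) ^ q * x ^ L = 1 := by rw [← pow_succ, ← pow_mul, hL, hCpow x hx]
        show ((x ^ q)⁻¹) ^ L = x ^ L
        rw [inv_pow, ← pow_mul, mul_comm, pow_mul]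
        exact inv_eq_of_mul_eq_one_right h1
      have hall : ∀ i, (f^[i] α) ^ L = α ^ L := by
        intro i
        induction i with
        | zero => rfl
        | succ i ih => rw [Function.iterate_succ_apply', hstep _ (hmemC i), ih]
      intro x hx y hy
      rw [hSC] at hx hy
      obtain ⟨i, -, rfl⟩ := Finset.mem_image.1 hx
      obtain ⟨j, -, rfl⟩ := Finset.mem_image.1 hy
      rw [hall, hall]
    · have hst' : ∀ x ∈ S \ C, f x ∈ S \ C := by
        intro x hx
        rw [Finset.mem_sdiff] at hx ⊢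
        refine ⟨hst x hx.1, fun h => ?_⟩
        have himg : C.image f = C := Finset.eq_of_subset_of_card_le
          (fun y hy => by obtain ⟨z, hz, rfl⟩ := Finset.mem_image.1 hy; exact hCst z hz)
          (by rw [Finset.card_image_of_injective _ hinj])
        rw [← himg] at h
        obtain ⟨z, hz, hzx⟩ := Finset.mem_image.1 h
        exact hx.2 (hinj hzx ▸ hz)
      obtain ⟨L', hL', hdvd', hpow', hle'⟩ := ih (S \ C).card (by omega) (S \ C) rfl hne' hst'
        (fun x hx => h0 x (Finset.mem_sdiff.1 hx).1)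
      have hb1 : 1 ≤ (S \ C).card := Finset.card_pos.2 hne'
      have hL'le : L' ≤ tor q (S \ C).card := by
        rcases hle' with h | h
        · exact h.1
        · exact h.2.trans (tor_mono hq (Nat.sub_le _ _))
      obtain ⟨w, rfl⟩ := hdvd'
      have hw : 0 < w := Nat.pos_of_mul_pos_left hL'
      refine ⟨tor q J * w, Nat.mul_pos (tor_pos hq hJ0) hw, (succ_dvd_tor q J).mul_right w, fun x hx => ?_,
        Or.inr ⟨by omega, ?_⟩⟩
      · by_cases hxC : x ∈ C
        · rw [pow_mul, hCpow x hxC, one_pow]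
        · obtain ⟨u, hu⟩ := succ_dvd_tor q J
          rw [hu, mul_right_comm, pow_mul, hpow' x (Finset.mem_sdiff.2 ⟨hx, hxC⟩), one_pow]
      · refine Nat.le_of_mul_le_mul_left ?_ (Nat.succ_pos q)
        calc (q + 1) * (tor q J * w) = tor q J * ((q + 1) * w) := by ring
          _ ≤ tor q J * tor q (S \ C).card := Nat.mul_le_mul_left _ hL'le
          _ ≤ (q + 1) * tor q (J + (S \ C).card - 1) := tor_mul_le hq hJ0 hb1
          _ = (q + 1) * tor q (n - 1) := by congr 2; omega

end Orbit

variable {F : Type*} [Field F] [Fintype F] {q p f d : ℕ}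

/-- A power of a unitary matrix is scalar. -/
theorem exists_scalar_power (hp : p.Prime) (hf : 1 ≤ f) (hq : q = p ^ f) (hF : Fintype.card F = q ^ 2)
    (hd : 0 < d) {M : Matrix (Fin d) (Fin d) F} (hM : Unitary.IsUnitary q M) :
    ∃ (e n : ℕ) (c : F), 1 ≤ e ∧ 0 < n ∧ M ^ n = c • 1 ∧
      ((e = d ∧ n ≤ p ^ Nat.clog p e) ∨ (e < d ∧ n ≤ tor q (d - e) * p ^ Nat.clog p e)) := by
  classical
  have hq2 : 2 ≤ q := Unitary.two_le_q hF
  haveI := Fact.mk hp
  haveI : Nonempty (Fin d) := ⟨⟨0, hd⟩⟩
  haveI : CharP F p := by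
    obtain ⟨r, m, hr, hchar, hqr, hm1⟩ := Unitary.exists_prime_pow hF
    have h1 : r ∣ p := hr.dvd_of_dvd_pow (n := f) (by rw [← hq, hqr]; exact dvd_pow_self r (by omega))
    rwa [(Nat.prime_dvd_prime_iff_eq hr hp).1 h1] at hchar
  set χ := M.charpoly with hχ
  let K := χ.SplittingField
  let φ : F →+* K := algebraMap F K
  haveI : Finite K := inferInstance
  haveI : CharP K p := charP_of_injective_ringHom φ.injective p
  set χK := χ.map φ with hχK
  have hmon : χK.Monic := (M.charpoly_monic).map _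
  have hspl : χK.Splits := Polynomial.SplittingField.splits χ
  set s := χK.roots with hs
  have hscard : Multiset.card s = d := by
    rw [hs, ← hspl.natDegree_eq_card_roots, hχK, natDegree_map, hχ, charpoly_natDegree_eq_dim, Fintype.card_fin]
  have hMu : IsUnit M := hM.isUnit hF
  have hdet : M.det ≠ 0 := ((Matrix.isUnit_iff_isUnit_det M).1 hMu).ne_zero
  have h0s : (0 : K) ∉ s := by
    intro h
    rw [hs, mem_roots hmon.ne_zero, IsRoot.def, hχK, eval_zero_map] at h
    have h1 : χ.eval 0 = 0 := φ.injective (h.trans (map_zero φ).symm)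
    rw [← coeff_zero_eq_eval_zero] at h1
    apply hdet
    rw [Matrix.det_eq_sign_charpoly_coeff, ← hχ, h1, mul_zero]
  have hinj : Function.Injective (twist q : K → K) := fun x y h => by
    have h1 : x ^ q ^ 1 = y ^ q ^ 1 := by simpa only [pow_one] using inv_injective h
    exact (LinSpec.qHom hF K 1).injective h1
  set S := s.toFinset with hS
  have hst : ∀ x ∈ S, twist q x ∈ S := fun x hx => by
    rw [hS, Multiset.mem_toFinset, hs, mem_roots hmon.ne_zero, IsRoot.def, hχK, eval_map] at hx ⊢
    obtain ⟨v, hv, hrev⟩ := LinSpec.rev_charpoly hF ((LinSpec.isUnitary_iff_adj hF M).1 hM)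
    have hx0 : x ≠ 0 := fun e => by
      apply h0s
      rw [← e, hs, mem_roots hmon.ne_zero, IsRoot.def, hχK, eval_map]
      exact hx
    have h2 := LinSpec.aeval_rev_root hF hx0 (show aeval x χ = 0 from hx)
    rw [hrev, map_mul, aeval_C, mul_eq_zero, map_eq_zero] at h2
    exact h2.resolve_left hv
  have hS0 : ∀ x ∈ S, x ≠ 0 := fun x hx e => h0s (e ▸ Multiset.mem_toFinset.1 hx)
  have hSne : S.Nonempty := by
    obtain ⟨x, hx⟩ := Multiset.card_pos_iff_exists_mem.1 (show 0 < Multiset.card s by omega)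
    exact ⟨x, Multiset.mem_toFinset.2 hx⟩
  obtain ⟨β, hβ, hmax⟩ := S.exists_max_image (fun x => s.count x) hSne
  set E := s.count β with hE
  have hEmax : ∀ x, s.count x ≤ E := fun x => by
    by_cases hx : x ∈ s
    · exact hmax x (Multiset.mem_toFinset.2 hx)
    · rw [Multiset.count_eq_zero_of_notMem hx]; exact Nat.zero_le _
  have hpos : ∀ x ∈ S, 1 ≤ s.count x := fun x hx => Multiset.one_le_count_iff_mem.2 (Multiset.mem_toFinset.1 hx)
  have htot : ∑ x ∈ S, s.count x = d := by rw [hS, Multiset.toFinset_sum_count_eq, hscard]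
  set J := S.card with hJ
  have hJE : E + (J - 1) ≤ d := by
    rw [← htot, ← Finset.add_sum_erase S _ hβ, hJ, ← Finset.card_erase_of_mem hβ, Finset.card_eq_sum_ones]
    exact Nat.add_le_add_left (Finset.sum_le_sum fun x hx => hpos x (Finset.mem_erase.1 hx).2) _
  set k := Nat.clog p E with hk
  have hEk : E ≤ p ^ k := Nat.le_pow_clog hp.one_lt E
  have kill : ∀ (P : F[X]), P ≠ 0 → (∀ x ∈ s, s.count x ≤ (P.map φ).rootMultiplicity x) → aeval M P = 0 := by
    intro P hP hroots
    have h1 : χK ∣ P.map φ := by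
      refine hspl.dvd_of_roots_le_roots hmon.ne_zero (Multiset.le_iff_count.2 fun x => ?_)
      by_cases hx : x ∈ s
      · exact (hroots x hx).trans_eq (count_roots _).symm
      · rw [Multiset.count_eq_zero_of_notMem hx]; exact Nat.zero_le _
    rw [hχK, map_dvd_map' φ] at h1
    obtain ⟨w, rfl⟩ := h1
    rw [map_mul, hχ, aeval_self_charpoly, zero_mul]
  have powkill : ∀ (b : F) (r : ℕ), 0 < r → (∀ x ∈ s, x ^ r = φ b) → M ^ (r * p ^ k) = (b ^ p ^ k) • 1 := by
    intro b r hr hx
    have hne0 : (X ^ r - C b : F[X]) ≠ 0 := X_pow_sub_C_ne_zero hr b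
    have h := kill ((X ^ r - C b) ^ p ^ k) (pow_ne_zero _ hne0) fun x hxs => by
      rw [Polynomial.map_pow]
      refine le_trans ((hEmax x).trans hEk) ?_
      have hroot : (X - C x) ∣ (X ^ r - C b : F[X]).map φ := by
        rw [dvd_iff_isRoot, Polynomial.map_sub, Polynomial.map_pow, map_X, map_C]
        simp [hx x hxs]
      exact (le_rootMultiplicity_iff (pow_ne_zero _ (by
        rw [Ne, Polynomial.map_eq_zero]; exact hne0))).2 (pow_dvd_pow_of_dvd hroot _)
    rw [map_pow, map_sub, map_pow, aeval_X, aeval_C,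
      sub_pow_char_pow_of_commute (p := p) k (Algebra.commute_algebraMap_right b (M ^ r)), sub_eq_zero,
      ← pow_mul, ← map_pow, Algebra.algebraMap_eq_smul_one] at h
    exact h
  have hmu : ∀ z : K, z ^ (q + 1) = 1 → ∃ b : F, φ b = z := by
    obtain ⟨a, ha, hord⟩ := Unitary.exists_norm_one_gen hF
    haveI : NeZero (q + 1) := ⟨Nat.succ_ne_zero q⟩
    have hprim : IsPrimitiveRoot (φ a) (q + 1) :=
      ((IsPrimitiveRoot.iff_orderOf).2 hord).map_of_injective φ.injective
    intro z hz
    obtain ⟨i, -, hi⟩ := hprim.eq_pow_of_pow_eq_one hz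
    exact ⟨a ^ i, by rw [map_pow, hi]⟩
  obtain ⟨L, hL, ⟨w, hw⟩, hLpow, hLle⟩ := exists_orbit_exponent hq2 hinj J S rfl hSne hst hS0
  have hJ1 : 1 ≤ J := hSne.card_pos
  have hE1 : 1 ≤ E := hpos β hβ
  have hpk : 0 < p ^ k := pow_pos hp.pos k
  rcases Nat.lt_or_ge J 2 with hJ2 | hJ2
  · obtain ⟨x₀, hx₀⟩ := Finset.card_eq_one.1 (show S.card = 1 by omega)
    rw [show x₀ = β from (Finset.mem_singleton.1 (hx₀ ▸ hβ)).symm] at hx₀
    have hEd : E = d := by rw [← htot, hx₀, Finset.sum_singleton]
    have hx1 : twist q β = β := Finset.mem_singleton.1 (hx₀ ▸ hst β hβ)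
    have hβ1 : β ^ (q + 1) = 1 := by
      have := pow_tor_eq_one (j := 1) hq2 (hS0 β hβ) hx1
      rwa [tor_odd odd_one, pow_one] at this
    obtain ⟨b, hb⟩ := hmu β hβ1
    have hxb : ∀ x ∈ s, x ^ 1 = φ b := fun x hx => by
      rw [pow_one, hb]
      exact Finset.mem_singleton.1 (hx₀ ▸ (Multiset.mem_toFinset.2 hx : x ∈ S))
    refine ⟨E, 1 * p ^ k, _, hE1, by omega, powkill b 1 one_pos hxb, Or.inl ⟨hEd, ?_⟩⟩
    rw [one_mul]
  · have hEd : E < d := by omega
    have hmono : tor q (J - 1) ≤ tor q (d - E) := tor_mono hq2 (by omega)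
    rcases hLle with ⟨hle, hconst⟩ | ⟨-, hle⟩
    · have hwpos : 0 < w := by
        rcases Nat.eq_zero_or_pos w with rfl | h
        · simp [hw] at hL
        · exact h
      have hdiv : L / (q + 1) = w := by rw [hw, Nat.mul_div_cancel_left _ (Nat.succ_pos q)]
      obtain ⟨b, hb⟩ := hmu (β ^ w) (by rw [← pow_mul, mul_comm, ← hw, hLpow β hβ])
      refine ⟨E, w * p ^ k, _, hE1, Nat.mul_pos hwpos hpk, powkill b w hwpos fun x hx => ?_, Or.inr ⟨hEd, ?_⟩⟩
      · rw [hb, ← hdiv]
        exact hconst x (Multiset.mem_toFinset.2 hx) β hβ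
      · refine Nat.mul_le_mul_right _ (le_trans ?_ hmono)
        refine Nat.le_of_mul_le_mul_left ?_ (Nat.succ_pos q)
        rw [← hw]
        exact hle.trans (tor_le_succ_mul hq2 hJ2)
    · refine ⟨E, L * p ^ k, _, hE1, Nat.mul_pos hL hpk,
        powkill 1 L hL fun x hx => by rw [map_one]; exact hLpow x (Multiset.mem_toFinset.2 hx), Or.inr ⟨hEd, ?_⟩⟩
      exact Nat.mul_le_mul_right _ (hle.trans hmono)

end Cfsg.Agent.PGUOrder
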