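/-
Elements of GU of prescribed order and orders in the quotient by the centre.
Main results (namespace `Cfsg.Agent.PGUOrder`): `orderOf_mk_le`, `exists_torus`, `exists_transvection`,
`exists_order_four`, `orderOf_block`, `exists_orderOf_block`.
-/
import Cfsg.Agent.Lib.PGUOrder.Upper
import Cfsg.Agent.Lib.Unitary.Block
import Cfsg.Agent.Lib.Unitary.Transvection
import Cfsg.Agent.Lib.PSLThree.Spectrum

set_option autoImplicit false
set_option linter.style.haveILetI false
set_option linter.unusedSectionVars false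

namespace Cfsg.Agent.PGUOrder

open Matrix Cfsg.Agent.Unitary

variable {F : Type*} [Field F] [Fintype F] {q n : ℕ}

/-- The matrix of an element of GU. -/
def mat (g : ↥(Cfsg.GU n F q)) : Matrix (Fin n) (Fin n) F :=
  ((g : Matrix.GeneralLinearGroup (Fin n) F) : Matrix (Fin n) (Fin n) F)

theorem mat_injective : Function.Injective (mat : ↥(Cfsg.GU n F q) → _) := fun _ _ h => Subtype.ext (Units.ext h)

theorem mat_one : mat (1 : ↥(Cfsg.GU n F q)) = 1 := rfl

theorem mat_mul (g h : ↥(Cfsg.GU n F q)) : mat (g * h) = mat g * mat h := rfl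

theorem mat_pow (g : ↥(Cfsg.GU n F q)) (k : ℕ) : mat (g ^ k) = mat g ^ k := by
  induction k with
  | zero => rw [pow_zero, pow_zero, mat_one]
  | succ k ih => rw [pow_succ, pow_succ, mat_mul, ih]

theorem orderOf_mat (g : ↥(Cfsg.GU n F q)) : orderOf (mat g) = orderOf g :=
  orderOf_eq_orderOf_iff.2 fun k => by rw [← mat_pow, ← mat_one (q := q), mat_injective.eq_iff]

theorem orderOf_guOfUnitary (hF : Fintype.card F = q ^ 2) (M : Matrix (Fin n) (Fin n) F) (hM : IsUnitary q M) :
    orderOf (guOfUnitary hF M hM) = orderOf M := by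
  rw [← orderOf_mat]; rfl

theorem mem_center_of_scalar {g : ↥(Cfsg.GU n F q)} {c : F} (h : mat g = c • 1) :
    g ∈ Subgroup.center ↥(Cfsg.GU n F q) :=
  Subgroup.mem_center_iff.2 fun x => mat_injective (by rw [mat_mul, mat_mul, h]; simp)

theorem scalar_of_mem_center (hF : Fintype.card F = q ^ 2) (hn : 2 ≤ n) {g : ↥(Cfsg.GU n F q)}
    (h : g ∈ Subgroup.center ↥(Cfsg.GU n F q)) : ∃ c : F, mat g = c • 1 := by
  obtain ⟨z, hz⟩ := scalar_of_commutes hF hn (mat g) fun B =>
    (congrArg mat (Subgroup.mem_center_iff.1 h (suToGU n F q B))).symm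
  exact ⟨z, by rw [hz, Matrix.scalar_apply, Matrix.smul_one_eq_diagonal]⟩

/-- The upper bound in the quotient by the centre. -/
theorem orderOf_mk_le {p f : ℕ} (hp : p.Prime) (hf : 1 ≤ f) (hq : q = p ^ f) (hF : Fintype.card F = q ^ 2)
    (hd : 3 ≤ n) (h32 : ¬ (n = 3 ∧ q = 2)) {T : ℕ}
    (hT : (Odd n ∧ 2 ≤ f ∧ T = q ^ (n - 1) - 1) ∨ (Odd n ∧ f = 1 ∧ T = (p ^ (n - 2) + 1) * p) ∨
      (Even n ∧ 2 < q ∧ T = q ^ (n - 1) + 1) ∨ (Even n ∧ q = 2 ∧ T = 4 * (2 ^ (n - 3) + 1)))
    (x : ↥(Cfsg.GU n F q) ⧸ Subgroup.center ↥(Cfsg.GU n F q)) : orderOf x ≤ T := by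
  obtain ⟨g, rfl⟩ := QuotientGroup.mk_surjective x
  obtain ⟨e, k, c, he, hk, hM, hb⟩ := exists_scalar_power hp hf hq hF (show 0 < n by omega) (M := mat g) g.2
  have h1 : (QuotientGroup.mk g : ↥(Cfsg.GU n F q) ⧸ Subgroup.center ↥(Cfsg.GU n F q)) ^ k = 1 := by
    rw [← QuotientGroup.mk_pow, QuotientGroup.eq_one_iff]
    exact mem_center_of_scalar (c := c) (by rw [mat_pow, hM])
  have h2 := orderOf_le_of_pow_eq_one hk h1
  obtain ⟨hlt, heq⟩ := bound_of_le hp.two_le hf hq hd h32 hT he
  rcases hb with ⟨h, h'⟩ | ⟨h, h'⟩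
  · exact h2.trans (h'.trans (heq h))
  · exact h2.trans (h'.trans (hlt h))

/-- An element of GU of the order of the large torus. -/
theorem exists_torus (hF : Fintype.card F = q ^ 2) {m : ℕ} (hm : 1 ≤ m) :
    ∃ g : ↥(Cfsg.GU m F q), orderOf g = tor q m := by
  classical
  have hq : 2 ≤ q := two_le_q hF
  obtain ⟨p, hp⟩ := CharP.exists F
  haveI := hp
  haveI : Fact p.Prime := ⟨CharP.char_is_prime F p⟩
  rcases Nat.even_or_odd m with he | ho
  · obtain ⟨l, rfl⟩ := even_iff_two_dvd.1 he
    haveI : NeZero l := ⟨by omega⟩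
    set K := FiniteField.Extension F p l
    haveI : Finite K := Module.finite_of_finite F
    obtain ⟨y, hy0, hy⟩ : ∃ y : K, y ≠ 0 ∧ orderOf y = q ^ (2 * l) - 1 := by
      obtain ⟨y, hy0, hy⟩ := PSLThree.exists_gen (F := F) l p
      exact ⟨y, hy0, by rw [hy, hF, ← pow_mul]⟩
    have hfr : Module.finrank F K = l := FiniteField.finrank_extension F p l
    let σ := LinSpec.qHom hF K 1
    have hσ : ∀ z : K, σ z = z ^ q := fun z => congrArg (z ^ ·) (pow_one q)
    have hσF : ∀ c : F, σ (algebraMap F K c) = algebraMap F K (c ^ q) := fun c => by rw [hσ, map_pow]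
    have hσsurj : Function.Surjective σ := Finite.surjective_of_injective σ.injective
    let Tr := Algebra.trace F K
    let h : K × K → K × K → F := fun u v => Tr (u.1 * σ v.2) + (Tr (v.1 * σ u.2)) ^ q
    have H : IsHerm q h := by
      refine ⟨fun a b c => ?_, fun c a b => ?_, fun a b => ?_⟩
      · simp only [h, Prod.fst_add, Prod.snd_add, add_mul, map_add, mul_add, add_pow_q hF]
        ring
      · simp only [h, Prod.smul_fst, Prod.smul_snd, smul_mul_assoc, map_smul, smul_eq_mul]
        rw [show b.1 * σ (c • a.2) = (c ^ q) • (b.1 * σ a.2) by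
          rw [Algebra.smul_def, Algebra.smul_def, map_mul, hσF]; ring,
          map_smul, smul_eq_mul, mul_pow, pow_q_pow_q hF]
        ring
      · simp only [h, add_pow_q hF, pow_q_pow_q hF]
        ring
    have hnd : Nondeg h := by
      intro a ha
      obtain ⟨w, hw⟩ : ∃ w, Tr w ≠ 0 := by
        by_contra hcon
        push Not at hcon
        exact Algebra.trace_ne_zero F K (LinearMap.ext hcon)
      refine Prod.ext ?_ ?_
      · by_contra h1
        obtain ⟨e, he⟩ := hσsurj (w / a.1)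
        have := ha (0, e)
        simp only [h, zero_mul, map_zero, zero_pow (show q ≠ 0 by omega), add_zero, he] at this
        rw [mul_div_cancel₀ w h1] at this
        exact hw this
      · by_contra h1
        have hσ2 : σ a.2 ≠ 0 := fun h0 => h1 ((map_eq_zero σ).1 h0)
        have := ha (w / σ a.2, 0)
        simp only [h, map_zero, mul_zero, zero_add, div_mul_cancel₀ w hσ2] at this
        exact hw (pow_eq_zero_iff (show q ≠ 0 by omega) |>.1 this)
    have hfrV : Module.finrank F (K × K) = 2 * l := by rw [Module.finrank_prod, hfr, two_mul]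
    obtain ⟨Φ, hΦu, -, -⟩ := LinSpec.exists_transfer hF H hnd hfrV
    set ε : K := (σ y)⁻¹ with hε
    have he1 : ε * σ y = 1 := inv_mul_cancel₀ (fun h0 => hy0 (σ.injective (by rw [h0, map_zero])))
    let T : Module.End F (K × K) := (LinearMap.mulLeft F ε).prodMap (LinearMap.mulLeft F y)
    have hT : ∀ u v, h (T u) (T v) = h u v := by
      intro u v
      simp only [h, T, LinearMap.prodMap_apply, LinearMap.mulLeft_apply, map_mul]
      rw [mul_mul_mul_comm, he1, one_mul, mul_mul_mul_comm ε v.1, he1, one_mul]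
    have hTpow : ∀ (i : ℕ) (u : K × K), (T ^ i) u = (ε ^ i * u.1, y ^ i * u.2) := by
      intro i u
      induction i with
      | zero => simp
      | succ i ih =>
        rw [pow_succ', Module.End.mul_apply, ih]
        simp [T, pow_succ']
        constructor <;> ring
    refine ⟨guOfUnitary hF (Φ T) (hΦu T hT), ?_⟩
    rw [orderOf_guOfUnitary, tor_even he, ← hy, show orderOf (Φ T) = orderOf T from Φ.toMulEquiv.orderOf_eq T]
    refine orderOf_eq_orderOf_iff.2 fun k => ⟨fun hk => ?_, fun hk => ?_⟩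
    · have h2 := (hTpow k (1, 1)).symm.trans (LinearMap.congr_fun hk (1, 1))
      simpa using (congrArg Prod.snd h2)
    · refine LinearMap.ext fun u => ?_
      rw [hTpow, hk, hε, inv_pow, ← map_pow, hk, map_one, inv_one, one_mul, one_mul]
      rfl
  · haveI : NeZero m := ⟨by omega⟩
    set K := FiniteField.Extension F p m
    haveI : Finite K := Module.finite_of_finite F
    obtain ⟨y, hy0, hy⟩ := PSLThree.exists_gen (F := F) m p
    rw [hF, ← pow_mul] at hy
    have hfr : Module.finrank F K = m := FiniteField.finrank_extension F p m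
    have hcardK : ∀ x : K, x ^ (q ^ m * q ^ m) = x := fun x => by
      haveI := Fintype.ofFinite K
      have h1 : Fintype.card K = q ^ m * q ^ m := by
        rw [← Nat.card_eq_fintype_card, FiniteField.natCard_extension, Nat.card_eq_fintype_card, hF, ← pow_mul,
          ← pow_add, two_mul]
      rw [← h1, FiniteField.pow_card]
    let ρ := LinSpec.qHom hF K m
    have hρ : ∀ z : K, ρ z = z ^ q ^ m := fun z => rfl
    have hρρ : ∀ z : K, ρ (ρ z) = z := fun z => by rw [hρ, hρ, ← pow_mul, hcardK]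
    have hρF : ∀ c : F, ρ (algebraMap F K c) = algebraMap F K (c ^ q) := fun c => by
      rw [hρ, ← map_pow, LinSpec.conj_pow_odd hF ho]
    let Tr := Algebra.trace F K
    have hTr : ∀ w : K, Tr (ρ w) = (Tr w) ^ q := fun w => by
      apply (algebraMap F K).injective
      rw [← hρF, FiniteField.algebraMap_trace_eq_sum_pow, FiniteField.algebraMap_trace_eq_sum_pow, map_sum]
      exact Finset.sum_congr rfl fun i _ => (map_pow ρ w _).symm
    let h : K → K → F := fun u v => Tr (u * ρ v)
    have H : IsHerm q h := by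
      refine ⟨fun a b c => ?_, fun c a b => ?_, fun a b => ?_⟩
      · simp only [h, add_mul, map_add]
      · simp only [h, smul_mul_assoc, map_smul, smul_eq_mul]
      · simp only [h]
        rw [← hTr, map_mul ρ, hρρ, mul_comm]
    have hnd : Nondeg h := by
      intro a ha
      by_contra h1
      obtain ⟨w, hw⟩ : ∃ w, Tr w ≠ 0 := by
        by_contra hcon
        push Not at hcon
        exact Algebra.trace_ne_zero F K (LinearMap.ext hcon)
      have := ha (ρ (w / a))
      simp only [h, hρρ, mul_div_cancel₀ w h1] at this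
      exact hw this
    obtain ⟨Φ, hΦu, -, -⟩ := LinSpec.exists_transfer hF H hnd hfr
    set z : K := y ^ (q ^ m - 1) with hzdef
    have hqm : 2 ≤ q ^ m := hq.trans (Nat.le_self_pow (by omega) q)
    have hprod : q ^ (2 * m) - 1 = (q ^ m + 1) * (q ^ m - 1) := by
      rw [mul_comm 2 m, pow_mul]
      simpa using Nat.sq_sub_sq (q ^ m) 1
    have hz : orderOf z = q ^ m + 1 := by
      rw [hzdef, orderOf_pow' y (by omega), hy, hprod, Nat.gcd_mul_left_left, Nat.mul_div_cancel _ (by omega)]
    have hz1 : z * ρ z = 1 := by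
      rw [hρ, ← pow_succ', ← hz, pow_orderOf_eq_one]
    let T : Module.End F K := Algebra.lmul F K z
    have hT : ∀ u v, h (T u) (T v) = h u v := fun u v => by
      simp only [h, T, Algebra.coe_lmul_eq_mul, LinearMap.mul_apply', map_mul]
      rw [mul_mul_mul_comm, hz1, one_mul]
    refine ⟨guOfUnitary hF (Φ T) (hΦu T hT), ?_⟩
    rw [orderOf_guOfUnitary, tor_odd ho, ← hz, show orderOf (Φ T) = orderOf T from Φ.toMulEquiv.orderOf_eq T]
    exact orderOf_injective (Algebra.lmul F K : K →* Module.End F K) Algebra.lmul_injective z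

/-- A transvection in GU₂. -/
theorem exists_transvection {p : ℕ} (hp : p.Prime) [CharP F p] (hF : Fintype.card F = q ^ 2) :
    ∃ g : ↥(Cfsg.GU 2 F q), orderOf g = p ∧ ∀ (k : ℕ) (c : F), mat g ^ k = c • 1 → mat g ^ k = 1 := by
  haveI := Fact.mk hp
  obtain ⟨a, ha⟩ := exists_norm_eq hF (c := (-1 : F)) (by rw [neg_pow_q hF, one_pow])
  have ha0 : a ≠ 0 := fun h => by
    rw [h, zero_pow (Nat.succ_ne_zero q)] at ha
    exact neg_ne_zero.2 one_ne_zero ha.symm
  obtain ⟨c, hc0, hc⟩ := exists_skew hF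
  set v : Fin 2 → F := ![1, a]
  have hv : Cfsg.hermForm 2 F q v v = 0 := by
    rw [hermForm_self, Fin.sum_univ_two]
    simp [v, ha]
  set M := Cfsg.unitaryTransvection 2 q v c with hMdef
  have hpow : ∀ k : ℕ, M ^ k = Cfsg.unitaryTransvection 2 q v (k * c) := by
    intro k
    induction k with
    | zero => rw [pow_zero, Nat.cast_zero, zero_mul, Unitary.transvection_zero]
    | succ k ih => rw [pow_succ, ih, hMdef, transvection_mul v hv, Nat.cast_succ, add_mul, one_mul]
  have hscal : ∀ (e : F) (z : F), Cfsg.unitaryTransvection 2 q v e = z • 1 → e = 0 := by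
    intro e z h
    have h01 := congrArg (fun A : Matrix (Fin 2) (Fin 2) F => (A *ᵥ Pi.single 1 1) 0) h
    simp only [transvection_mulVec, hermForm_single_left, Matrix.smul_mulVec, Matrix.one_mulVec] at h01
    simp [v] at h01
    rcases h01 with h01 | ⟨h01, -⟩
    · exact h01
    · exact absurd h01 ha0
  have hMu : IsUnitary q M := transvection_isUnitary hF v hv (by rw [hc, add_neg_cancel])
  refine ⟨guOfUnitary hF M hMu, ?_, ?_⟩
  · rw [orderOf_guOfUnitary]
    refine orderOf_eq_prime (by rw [hpow, CharP.cast_eq_zero, zero_mul, Unitary.transvection_zero]) fun h => hc0 ?_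
    exact hscal c 1 (by rw [one_smul]; exact h)
  · intro k z h
    change M ^ k = z • 1 at h
    show M ^ k = 1
    rw [hpow] at h ⊢
    rw [hscal _ _ h, Unitary.transvection_zero]

/-- An element of order four in GU₃(2). -/
theorem exists_order_four (hF : Fintype.card F = q ^ 2) (hq : q = 2) :
    ∃ g : ↥(Cfsg.GU 3 F q), orderOf g = 4 ∧ ∀ (k : ℕ) (c : F), mat g ^ k = c • 1 → mat g ^ k = 1 := by
  subst hq
  haveI : CharP F 2 := by
    obtain ⟨r, m, hr, hchar, hqr, hm1⟩ := exists_prime_pow hF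
    have h1 : r ∣ 2 := hqr ▸ dvd_pow_self r (show m ≠ 0 by omega)
    rwa [(Nat.prime_dvd_prime_iff_eq hr Nat.prime_two).1 h1] at hchar
  obtain ⟨w, hw3, hord⟩ := exists_norm_one_gen hF
  have hw1 : w ≠ 1 := fun h => by rw [h, orderOf_one] at hord; omega
  have hw : w ^ 2 + w + 1 = 0 := by
    have h1 : (w - 1) * (w ^ 2 + w + 1) = 0 := by linear_combination hw3
    exact (mul_eq_zero.1 h1).resolve_left (sub_ne_zero.2 hw1)
  have h2 : (2 : F) = 0 := CharTwo.two_eq_zero
  set V : Matrix (Fin 3) (Fin 3) F := !![1, 1, 1; 1, w, w ^ 2; 1, w ^ 2, w] with hV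
  set P : Matrix (Fin 3) (Fin 3) F := !![1, 0, 0; 0, 0, 1; 0, 1, 0] with hP
  have hVV : V * V = P := by
    ext i j
    fin_cases i <;> fin_cases j <;> simp [hV, hP, Matrix.mul_apply, Fin.sum_univ_three] <;> grind
  have hPP : P * P = 1 := by
    ext i j
    fin_cases i <;> fin_cases j <;> simp [hP, Matrix.mul_apply, Fin.sum_univ_three]
  have hVu : IsUnitary 2 V := by
    rw [LinSpec.isUnitary_iff_adj hF]
    ext i j
    fin_cases i <;> fin_cases j <;> simp [hV, LinSpec.adj, Matrix.mul_apply, Fin.sum_univ_three] <;> grind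
  have hnP : ∀ c : F, P ≠ c • 1 := fun c h => by
    have := congrFun (congrFun h 1) 2
    simp [hP] at this
  have hV4 : V ^ 4 = 1 := by rw [show 4 = 2 * 2 from rfl, pow_mul, sq V, hVV, sq, hPP]
  have hodd : ∀ (k : ℕ) (c : F), V ^ k = c • 1 → 4 ∣ k := by
    intro k c h
    have hk : V ^ (k % 4) = c • 1 := by
      rw [← h]
      conv_rhs => rw [← Nat.div_add_mod k 4, pow_add, pow_mul, hV4, one_pow, one_mul]
    have h4 : k % 4 < 4 := Nat.mod_lt _ (by norm_num)
    have hsq : ∀ r, V ^ r = c • 1 → V ^ (2 * r) = (c * c) • 1 := fun r hr => by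
      rw [two_mul, pow_add, hr, smul_mul_smul_comm, one_mul]
    interval_cases hr : k % 4
    · omega
    · exact absurd (by rw [← hVV, ← sq]; exact hsq 1 hk) (hnP (c * c))
    · exact absurd (by rw [← hVV, ← sq]; exact hk) (hnP c)
    · refine absurd ?_ (hnP (c * c))
      rw [← hVV, ← sq]
      have := hsq 3 hk
      rwa [show 2 * 3 = 4 + 2 from rfl, pow_add, hV4, one_mul] at this
  have hord4 : orderOf V = 4 :=
    Nat.dvd_antisymm (orderOf_dvd_of_pow_eq_one hV4)
      (hodd (orderOf V) 1 (by rw [pow_orderOf_eq_one, one_smul]))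
  refine ⟨guOfUnitary hF V hVu, (orderOf_guOfUnitary hF V hVu).trans hord4, fun k c h => ?_⟩
  obtain ⟨u, rfl⟩ := hodd k c h
  show V ^ (4 * u) = 1
  rw [pow_mul, hV4, one_pow]

/-- The order of a block element modulo the centre. -/
theorem orderOf_block (hF : Fintype.card F = q ^ 2) {k m : ℕ} (hm : 1 ≤ m) (hkm : 2 ≤ k + m)
    (g : ↥(Cfsg.GU k F q)) (h : ↥(Cfsg.GU m F q))
    (hh : ∀ (i : ℕ) (c : F), mat h ^ i = c • 1 → mat h ^ i = 1) :
    orderOf (QuotientGroup.mk (blockHom hF k m (g, h)) :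
      ↥(Cfsg.GU (k + m) F q) ⧸ Subgroup.center ↥(Cfsg.GU (k + m) F q)) = (orderOf g).lcm (orderOf h) := by
  rw [← Prod.orderOf_mk, ← orderOf_injective (blockHom hF k m) (blockHom_injective hF k m) (g, h)]
  refine orderOf_eq_orderOf_iff.2 fun i => ⟨fun hi => ?_, fun hi => by rw [← QuotientGroup.mk_pow, hi]; rfl⟩
  rw [← QuotientGroup.mk_pow, QuotientGroup.eq_one_iff] at hi
  obtain ⟨c, hc⟩ := scalar_of_mem_center hF hkm hi
  have hblock : mat ((blockHom hF k m (g, h)) ^ i) = blockMatrix (mat (g ^ i)) (mat (h ^ i)) := by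
    rw [← map_pow]; rfl
  have e : ∀ a b, (blockMatrix (mat (g ^ i)) (mat (h ^ i))) (Fin.natAdd k a) (Fin.natAdd k b) =
      mat (h ^ i) a b := fun a b => by simp [blockMatrix]
  have hhs : mat h ^ i = c • 1 := by
    ext a b
    rw [← mat_pow, ← e, ← hblock, hc]
    simp [Matrix.one_apply]
  have hc1 : c = 1 := by
    have := congrFun (congrFun ((hhs.symm.trans (hh i c hhs))) ⟨0, hm⟩) ⟨0, hm⟩
    simpa using this
  exact mat_injective (by rw [hc, hc1, one_smul, mat_one])

/-- The block element with a torus element. -/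
theorem exists_orderOf_block (hF : Fintype.card F = q ^ 2) {d k m N : ℕ} (hd : d = k + m) (hk : 1 ≤ k) (hm : 1 ≤ m)
    (h : ↥(Cfsg.GU m F q)) (hh : ∀ (i : ℕ) (c : F), mat h ^ i = c • 1 → mat h ^ i = 1)
    (hN : orderOf h = N) (hco : (tor q k).Coprime N) :
    ∃ x : ↥(Cfsg.GU d F q) ⧸ Subgroup.center ↥(Cfsg.GU d F q), orderOf x = tor q k * N := by
  subst hd
  obtain ⟨g, hg⟩ := exists_torus hF hk
  exact ⟨_, by rw [orderOf_block hF hm (by omega) g h hh, hg, hN, hco.lcm_eq_mul]⟩

end Cfsg.Agent.PGUOrder
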